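/-
Recognising a section `F(p)`, the upper triangular affine group over the field with `p` elements.
* `involves_f_of_tau` : translations with an upper triangular action containing `-1`;
* `involves_f_of_data` : four elements `w, v, d, n`.
-/
import Cfsg.Agent.Lib.QdCrit.Basic

set_option autoImplicit false

namespace Cfsg.Agent.FSection

open Cfsg.Agent.QdCrit

universe u

variable {G : Type u} [Group G] {p : ℕ} [Fact p.Prime]

local notation "SL2p" => Matrix.SpecialLinearGroup (Fin 2) (ZMod p)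

/-- The upper triangular element of `F(p)`. -/
def el (a b e x y : ZMod p) (h : a * e = 1) : ↥(Cfsg.fOver (ZMod p)) :=
  ⟨⟨!![a, b, x; 0, e, y; 0, 0, 1], by rw [Matrix.det_fin_three]; simp; exact h⟩,
    Subgroup.subset_closure ⟨rfl, rfl, rfl, rfl⟩⟩

theorem el_congr {a b e x y a' b' e' x' y' : ZMod p} {h : a * e = 1} {h' : a' * e' = 1}
    (ha : a = a') (hb : b = b') (he : e = e') (hx : x = x') (hy : y = y') :
    el a b e x y h = el a' b' e' x' y' h' := by
  subst ha; subst hb; subst he; subst hx; subst hy; rfl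

theorem el_mul {a b e x y a' b' e' x' y' : ZMod p} (h : a * e = 1) (h' : a' * e' = 1) :
    el a b e x y h * el a' b' e' x' y' h' =
      el (a * a') (a * b' + b * e') (e * e') (a * x' + b * y' + x) (e * y' + y)
        (by linear_combination (a' * e') * h + h') := by
  refine Subtype.ext (Matrix.SpecialLinearGroup.ext _ _ fun i j => ?_)
  show ((!![a, b, x; 0, e, y; 0, 0, 1] : Matrix (Fin 3) (Fin 3) (ZMod p)) *
    !![a', b', x'; 0, e', y'; 0, 0, 1]) i j = _
  fin_cases i <;> fin_cases j <;> simp [el, Matrix.mul_apply, Fin.sum_univ_three]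

/-- The elements of `F(p)` are upper triangular. -/
theorem exists_el (q : ↥(Cfsg.fOver (ZMod p))) : ∃ a b e x y h, q = el a b e x y h := by
  let T : Subgroup (Qd.Aff p) :=
    { carrier := {M | (M : Matrix (Fin 3) (Fin 3) (ZMod p)) 1 0 = 0 ∧
        (M : Matrix (Fin 3) (Fin 3) (ZMod p)) 2 0 = 0 ∧ (M : Matrix (Fin 3) (Fin 3) (ZMod p)) 2 1 = 0 ∧
        (M : Matrix (Fin 3) (Fin 3) (ZMod p)) 2 2 = 1}
      one_mem' := by simp
      mul_mem' := by
        rintro M N ⟨h0, h1, h2, h3⟩ ⟨k0, k1, k2, k3⟩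
        simp [Matrix.mul_apply, Fin.sum_univ_three, h0, h1, h2, h3, k0, k1, k2, k3]
      inv_mem' := by
        rintro M ⟨h0, h1, h2, h3⟩
        have hr : ∀ i j, ((M : Matrix (Fin 3) (Fin 3) (ZMod p)) *
            (↑(M⁻¹) : Matrix (Fin 3) (Fin 3) (ZMod p))) i j = (1 : Matrix (Fin 3) (Fin 3) (ZMod p)) i j :=
          fun i j => by
            rw [← Matrix.SpecialLinearGroup.coe_mul, mul_inv_cancel, Matrix.SpecialLinearGroup.coe_one]
        have hd : (M : Matrix (Fin 3) (Fin 3) (ZMod p)) 0 0 * (M : Matrix (Fin 3) (Fin 3) (ZMod p)) 1 1 = 1 := by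
          have := M.2
          rw [Matrix.det_fin_three, h0, h1, h2, h3] at this
          simpa using this
        have e0 := hr 2 0
        have e1 := hr 2 1
        have e2 := hr 2 2
        have e3 := hr 1 0
        rw [Matrix.mul_apply, Fin.sum_univ_three, h1, h2, h3] at e0 e1 e2
        simp only [zero_mul, one_mul, zero_add] at e0 e1 e2
        rw [Matrix.mul_apply, Fin.sum_univ_three, h0] at e3
        simp only [zero_mul, zero_add] at e3
        have e0' : (↑(M⁻¹) : Matrix (Fin 3) (Fin 3) (ZMod p)) 2 0 = 0 := e0.trans (by simp)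
        refine ⟨?_, e0', e1.trans (by simp), e2.trans (by simp)⟩
        rw [e0', mul_zero, add_zero] at e3
        exact (mul_eq_zero.1 (e3.trans (by simp))).resolve_left fun h => by rw [h, mul_zero] at hd; simp at hd }
  obtain ⟨M, hM⟩ := q
  have hle : Cfsg.fOver (ZMod p) ≤ T := (Subgroup.closure_le _).2 fun N hN => hN
  obtain ⟨h0, h1, h2, h3⟩ := hle hM
  have hd : M.1.det = 1 := M.2
  rw [Matrix.det_fin_three] at hd
  simp only [h0, h1, h2, h3, mul_zero, zero_mul, mul_one, sub_zero, add_zero] at hd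
  refine ⟨M.1 0 0, M.1 0 1, M.1 1 1, M.1 0 2, M.1 1 2, hd, ?_⟩
  refine Subtype.ext (Matrix.SpecialLinearGroup.ext _ _ fun i j => ?_)
  fin_cases i <;> fin_cases j <;> simp [el, h0, h1, h2, h3]

/-- Translations acted on by the upper triangular group give a section `F(p)`. -/
theorem involves_f_of_tau [Finite G] (hp : p ≠ 2) (π : G →* SL2p) (hπ0 : ∀ g, (π g).1 1 0 = 0)
    (hπ : ∀ M : SL2p, M.1 1 0 = 0 → ∃ g, π g = M)
    (τ : ZMod p × ZMod p → G) (hadd : ∀ x y, τ (x + y) = τ x * τ y) (hinj : Function.Injective τ)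
    (hker : ∀ x, π (τ x) = 1) (hconj : ∀ g x, g * τ x * g⁻¹ = τ (act (π g) x)) :
    Cfsg.Involves ↥(Cfsg.fOver (ZMod p)) G := by
  classical
  haveI : Fact (Nat.Prime 2) := ⟨Nat.prime_two⟩
  have hτ0 : τ 0 = 1 := by
    have := hadd 0 0
    rw [add_zero] at this
    exact left_eq_mul.1 this
  have hτneg : ∀ x, τ (-x) = (τ x)⁻¹ := fun x => by
    rw [eq_inv_iff_mul_eq_one, ← hadd, neg_add_cancel, hτ0]
  set Z : Subgroup SL2p := Subgroup.zpowers (-1)
  have hZn : Z.Normal := ⟨fun x hx g => by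
    have hc : g * x = x * g := by
      obtain ⟨k, rfl⟩ := hx
      exact ((Commute.neg_one_right g).zpow_right k).eq
    rw [hc, mul_inv_cancel_right]; exact hx⟩
  set M := Z.comap π
  haveI : M.Normal := hZn.comap π
  obtain ⟨S⟩ : Nonempty (Sylow 2 ↥M) := inferInstance
  set D := Subgroup.normalizer (((S : Subgroup ↥M).map M.subtype : Subgroup G) : Set G) with hD
  obtain ⟨g₁, hg₁⟩ := hπ (-1) (by simp)
  -- the image of `S` contains `-1`
  have hS : ∃ s ∈ (S : Subgroup ↥M), π (s : G) = -1 := by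
    have hs : Function.Surjective (π.subgroupComap Z) := by
      rintro ⟨z, k, rfl⟩
      refine ⟨⟨g₁ ^ k, show π (g₁ ^ k) ∈ Z from ⟨k, by rw [map_zpow, hg₁]⟩⟩, Subtype.ext ?_⟩
      show π (g₁ ^ k) = (-1) ^ k
      rw [map_zpow, hg₁]
    have hZ2 : IsPGroup 2 ↥Z := by
      intro z
      refine ⟨1, Subtype.ext ?_⟩
      obtain ⟨k, hk⟩ := z.2
      rw [pow_one, SubgroupClass.coe_pow, ← hk, ← zpow_natCast, ← zpow_mul, mul_comm, zpow_mul,
        zpow_natCast, neg_one_sq, one_zpow]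
      rfl
    have htop : ((S.mapSurjective hs : Sylow 2 ↥Z) : Subgroup ↥Z) = ⊤ :=
      ((S.mapSurjective hs).3 (hZ2.to_subgroup ⊤) le_top).symm
    have h1 : (⟨-1, Subgroup.mem_zpowers _⟩ : ↥Z) ∈ ((S.mapSurjective hs : Sylow 2 ↥Z) : Subgroup ↥Z) :=
      htop ▸ Subgroup.mem_top _
    rw [Sylow.coe_mapSurjective] at h1
    obtain ⟨s, hs', he⟩ := h1
    exact ⟨s, hs', congrArg Subtype.val he⟩
  obtain ⟨s₀, hs₀, hπs₀⟩ := hS
  have hπD : ∀ m : SL2p, m.1 1 0 = 0 → ∃ d ∈ D, π d = m := by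
    intro m hm
    obtain ⟨g, rfl⟩ := hπ m hm
    have hg : g ∈ ((D ⊔ M : Subgroup G) : Set G) := by
      rw [hD, Sylow.normalizer_sup_eq_top S]; trivial
    rw [Subgroup.mul_normal] at hg
    obtain ⟨d, hd, c, hc, rfl⟩ := Set.mem_mul.1 hg
    obtain ⟨k, hk⟩ := (hc : π c ∈ Z)
    refine ⟨d * (s₀ : G) ^ k, mul_mem hd (zpow_mem (Subgroup.le_normalizer ?_) k), ?_⟩
    · exact Subgroup.mem_map_of_mem _ hs₀
    · rw [map_mul, map_mul, map_zpow, hπs₀, ← (hk : (-1 : SL2p) ^ k = π c)]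
  have huniq : ∀ x, τ x ∈ D → x = 0 := by
    intro x hx
    have hmem : τ x * (s₀ : G) * (τ x)⁻¹ * (s₀ : G)⁻¹ ∈ (S : Subgroup ↥M).map M.subtype :=
      mul_mem ((Subgroup.mem_normalizer_iff.1 hx _).1 (Subgroup.mem_map_of_mem _ hs₀))
        (inv_mem (Subgroup.mem_map_of_mem _ hs₀))
    have he : τ x * (s₀ : G) * (τ x)⁻¹ * (s₀ : G)⁻¹ = τ (x + x) := by
      have h1 := hconj (s₀ : G) (-x)
      rw [hπs₀, show act (-1 : SL2p) (-x) = x by
        ext <;> simp [act, Matrix.SpecialLinearGroup.coe_neg]] at h1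
      rw [hadd, ← hτneg]
      calc τ x * (s₀ : G) * τ (-x) * (s₀ : G)⁻¹ = τ x * ((s₀ : G) * τ (-x) * (s₀ : G)⁻¹) := by group
        _ = τ x * τ x := by rw [h1]
    rw [he] at hmem
    obtain ⟨k, hk⟩ := (S.2.map M.subtype) ⟨_, hmem⟩
    have hk' : τ (x + x) ^ 2 ^ k = 1 := congrArg Subtype.val hk
    have hpow : ∀ (n : ℕ) y, τ y ^ n = τ (n • y) := by
      intro n y
      induction n with
      | zero => rw [pow_zero, zero_smul, hτ0]
      | succ n ih => rw [pow_succ, ih, succ_nsmul, hadd]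
    rw [hpow, ← hτ0] at hk'
    have h0 := hinj hk'
    rw [← two_nsmul, ← mul_nsmul] at h0
    have hunit : ((2 * 2 ^ k : ℕ) : ZMod p) ≠ 0 := by
      rw [Ne, ZMod.natCast_eq_zero_iff, ← pow_succ']
      exact fun h => hp ((Nat.prime_dvd_prime_iff_eq Fact.out Nat.prime_two).1
        ((Fact.out : p.Prime).dvd_of_dvd_pow h))
    have h0' : ((2 * 2 ^ k : ℕ) : ZMod p) * x.1 = 0 ∧ ((2 * 2 ^ k : ℕ) : ZMod p) * x.2 = 0 := by
      have := Prod.ext_iff.1 h0
      simpa [nsmul_eq_mul] using this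
    exact Prod.ext ((mul_eq_zero.1 h0'.1).resolve_left hunit)
      ((mul_eq_zero.1 h0'.2).resolve_left hunit)
  have hprod : ∀ x y d, τ x * d * (τ y) = τ (x + act (π d) y) * d := by
    intro x y d
    rw [hadd, ← hconj]
    group
  let E : Subgroup G :=
    { carrier := {g | ∃ x, ∃ d ∈ D, g = τ x * d}
      one_mem' := ⟨0, 1, one_mem D, by rw [hτ0, one_mul]⟩
      mul_mem' := by
        rintro _ _ ⟨x, d, hd, rfl⟩ ⟨y, d', hd', rfl⟩
        exact ⟨_, d * d', mul_mem hd hd', by rw [← mul_assoc, hprod, mul_assoc]⟩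
      inv_mem' := by
        rintro _ ⟨x, d, hd, rfl⟩
        refine ⟨act (π d⁻¹) (-x), d⁻¹, inv_mem hd, ?_⟩
        rw [← hconj, hτneg, inv_inv, mul_inv_rev]
        group }
  have hE : ∀ g : ↥E, ∃ x, ∃ d ∈ D, (g : G) = τ x * d := fun g => g.2
  choose cx cd hcd hcxd using hE
  have hcu : ∀ (g : ↥E) (x : ZMod p × ZMod p) (d : G), d ∈ D → (g : G) = τ x * d → cx g = x := by
    intro g x d hd he
    have h1 : τ (-x + cx g) = d * (cd g)⁻¹ := by
      have h2 := (hcxd g).symm.trans he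
      calc τ (-x + cx g) = (τ x)⁻¹ * (τ (cx g) * cd g) * (cd g)⁻¹ := by rw [hadd, hτneg]; group
        _ = d * (cd g)⁻¹ := by rw [h2]; group
    have h3 := huniq _ (h1 ▸ mul_mem hd (inv_mem (hcd g)))
    rwa [neg_add_eq_zero, eq_comm] at h3
  let F : ↥E → ↥(Cfsg.fOver (ZMod p)) := fun g =>
    el ((π (g : G)).1 0 0) ((π (g : G)).1 0 1) ((π (g : G)).1 1 1) (cx g).1 (cx g).2 (by
      have := (π (g : G)).2
      rw [Matrix.det_fin_two, hπ0, mul_zero, sub_zero] at this
      exact this)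
  have hπE : ∀ g : ↥E, π (g : G) = π (cd g) := fun g => by
    rw [hcxd g, map_mul, hker, one_mul]
  let f : ↥E →* ↥(Cfsg.fOver (ZMod p)) := MonoidHom.mk' F fun g h => by
    have hcx : cx (g * h) = cx g + act (π (g : G)) (cx h) := by
      refine hcu _ _ (cd g * cd h) (mul_mem (hcd g) (hcd h)) ?_
      rw [Subgroup.coe_mul, hπE g, hcxd g, hcxd h, ← mul_assoc, hprod, mul_assoc]
    simp only [F]
    rw [el_mul]
    refine el_congr ?_ ?_ ?_ ?_ ?_
    all_goals simp only [Subgroup.coe_mul, map_mul, Matrix.SpecialLinearGroup.coe_mul,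
      Matrix.mul_apply, Fin.sum_univ_two, hcx, act, Prod.fst_add, Prod.snd_add, hπ0]
    all_goals ring
  refine Involves.involves_of_hom f fun q => ?_
  obtain ⟨a, b, e, x, y, h, rfl⟩ := exists_el q
  obtain ⟨d, hd, hπd⟩ := hπD ⟨!![a, b; 0, e], by rw [Matrix.det_fin_two_of]; simp [h]⟩ rfl
  refine ⟨⟨τ (x, y) * d, (x, y), d, hd, rfl⟩, ?_⟩
  show F _ = _
  have hc' := hcu ⟨τ (x, y) * d, (x, y), d, hd, rfl⟩ (x, y) d hd rfl
  simp only [F, hc']
  refine el_congr ?_ ?_ ?_ rfl rfl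
  all_goals (rw [show π (τ (x, y) * d) = π d by rw [map_mul, hker, one_mul], hπd]; simp)

/-- `F(p)` from `w, v` commuting of order `p`, a transvection `d` and a diagonal element `n`. -/
theorem involves_f_of_data [Finite G] (hp : p ≠ 2) {w v d n : G} (hw1 : w ≠ 1) (hw : w ^ p = 1)
    (hv : v ^ p = 1) (hwv : Commute w v) (hdw : d * w * d⁻¹ = w) (hdv : d * v * d⁻¹ = w * v)
    {s : (ZMod p)ˣ} (hs : ∀ u : (ZMod p)ˣ, u ∈ Subgroup.zpowers s)
    (hnw : n * w * n⁻¹ = w ^ (s : ZMod p).val) (hnv : n * v * n⁻¹ = v ^ ((s⁻¹ : (ZMod p)ˣ) : ZMod p).val) :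
    Cfsg.Involves ↥(Cfsg.fOver (ZMod p)) G := by
  classical
  let τ : ZMod p × ZMod p → G := fun x => w ^ x.1.val * v ^ x.2.val
  have hadd : ∀ x y, τ (x + y) = τ x * τ y := by
    intro x y
    show w ^ (x.1 + y.1).val * v ^ (x.2 + y.2).val = _
    rw [pow_val_add hw, pow_val_add hv, (hwv.pow_pow y.1.val x.2.val).mul_mul_mul_comm]
  have hord : orderOf w = p := orderOf_eq_prime hw hw1
  have hzero : ∀ x, τ x = 1 → x = 0 := by
    intro x hx
    have h1 : d * τ x * d⁻¹ = 1 := by rw [hx, mul_one, mul_inv_cancel]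
    have h2 : d * τ x * d⁻¹ = w ^ x.2.val * τ x := by
      show d * (w ^ x.1.val * v ^ x.2.val) * d⁻¹ = w ^ x.2.val * (w ^ x.1.val * v ^ x.2.val)
      rw [conj_mul.symm, ← conj_pow, ← conj_pow, hdw, hdv, hwv.mul_pow, ← mul_assoc, ← pow_add,
        add_comm, pow_add, mul_assoc]
    rw [h1, hx, mul_one] at h2
    have hz : ∀ i : ZMod p, w ^ i.val = 1 → i = 0 := fun i hi => by
      have := orderOf_dvd_of_pow_eq_one hi
      rw [hord] at this
      exact (ZMod.val_eq_zero i).1 (Nat.eq_zero_of_dvd_of_lt this (ZMod.val_lt i))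
    have hx2 := hz _ h2.symm
    have hx' : w ^ x.1.val * v ^ x.2.val = 1 := hx
    rw [hx2, ZMod.val_zero, pow_zero, mul_one] at hx'
    exact Prod.ext (hz _ hx') hx2
  have hinj : Function.Injective τ := fun x y hxy => by
    have : τ (x - y) * τ y = τ x := by rw [← hadd, sub_add_cancel]
    rw [← hxy, mul_eq_right] at this
    exact sub_eq_zero.1 (hzero _ this)
  let U : SL2p := ⟨!![1, 1; 0, 1], by rw [Matrix.det_fin_two_of]; simp⟩
  let T : SL2p := ⟨!![(s : ZMod p), 0; 0, ((s⁻¹ : (ZMod p)ˣ) : ZMod p)], by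
    rw [Matrix.det_fin_two_of, mul_zero, sub_zero, ← Units.val_mul, mul_inv_cancel, Units.val_one]⟩
  have hmulval : ∀ (g : G), g ^ p = 1 → ∀ a b : ZMod p, (g ^ a.val) ^ b.val = g ^ (a * b).val := by
    intro g hg a b
    rw [← pow_mul, ZMod.val_mul, ← pow_eq_pow_mod _ hg]
  have hdU : ((d, U) : G × SL2p) ∈ graph τ := by
    intro x
    show d * (w ^ x.1.val * v ^ x.2.val) * d⁻¹ = τ (act U x)
    rw [show act U x = (x.1 + x.2, x.2) by simp [U, act],
      conj_mul.symm, ← conj_pow, ← conj_pow, hdw, hdv, hwv.mul_pow, ← mul_assoc, ← pow_val_add hw]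
  have hnT : ((n, T) : G × SL2p) ∈ graph τ := by
    intro x
    show n * (w ^ x.1.val * v ^ x.2.val) * n⁻¹ = τ (act T x)
    rw [show act T x = ((s : ZMod p) * x.1, ((s⁻¹ : (ZMod p)ˣ) : ZMod p) * x.2) by
      ext <;> simp only [act, T, Matrix.of_apply, Matrix.cons_val', Matrix.cons_val_fin_one, Matrix.cons_val_zero,
        Matrix.cons_val_one, zero_mul, add_zero, zero_add],
      conj_mul.symm, ← conj_pow, ← conj_pow, hnw, hnv, hmulval w hw, hmulval v hv]
  have hτg : ∀ y, ((τ y, 1) : G × SL2p) ∈ graph τ := fun y x => by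
    show τ y * τ x * (τ y)⁻¹ = τ (act (1 : SL2p) x)
    rw [act_one, ← hadd, add_comm, hadd, mul_inv_cancel_right]
  let B : Subgroup SL2p :=
    { carrier := {M | M.1 1 0 = 0}
      one_mem' := by simp
      mul_mem' := fun {M N} hM hN => by
        have h1 : M.1 1 0 = 0 := hM
        have h2 : N.1 1 0 = 0 := hN
        show (M * N).1 1 0 = 0
        rw [Matrix.SpecialLinearGroup.coe_mul, Matrix.mul_apply, Fin.sum_univ_two, h1, h2, zero_mul,
          mul_zero, add_zero]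
      inv_mem' := fun {M} hM => by
        have h1 : M.1 1 0 = 0 := hM
        show (M⁻¹).1 1 0 = 0
        rw [Matrix.SpecialLinearGroup.coe_inv, Matrix.adjugate_fin_two]
        simp [h1] }
  let P : Subgroup (G × SL2p) := graph τ ⊓ B.comap (MonoidHom.snd G SL2p)
  have hfst : Function.Injective ((MonoidHom.fst G SL2p).comp P.subtype) := by
    rintro ⟨⟨g, m⟩, hm⟩ ⟨⟨g', m'⟩, hm'⟩ he
    change g = g' at he
    subst he
    refine Subtype.ext (Prod.ext rfl (act_injective fun x => hinj ?_))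
    exact (hm.1 x).symm.trans (hm'.1 x)
  have hTpow : ∀ i : ℕ, ∀ u : (ZMod p)ˣ, u = s ^ i → (T ^ i).1 = !![(u : ZMod p), 0; 0, ((u⁻¹ : (ZMod p)ˣ) : ZMod p)] := by
    intro i
    induction i with
    | zero => intro u hu; subst hu; simp [Matrix.one_fin_two]
    | succ i ih =>
      intro u hu; subst hu
      rw [pow_succ, Matrix.SpecialLinearGroup.coe_mul, ih _ rfl]
      have hu : ((s ^ (i + 1))⁻¹ : (ZMod p)ˣ) = (s ^ i)⁻¹ * s⁻¹ := by rw [pow_succ', mul_inv_rev]
      rw [hu]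
      ext a b; fin_cases a <;> fin_cases b <;>
        simp only [T, Matrix.mul_apply, Fin.sum_univ_two, pow_succ, Units.val_mul, Matrix.of_apply,
          Matrix.cons_val', Matrix.cons_val_fin_one, Matrix.cons_val_zero, Matrix.cons_val_one, mul_zero,
          zero_mul, add_zero, zero_add, Fin.zero_eta, Fin.mk_one, Fin.isValue]
  have hUpow : ∀ i : ℕ, (U ^ i).1 = !![1, (i : ZMod p); 0, 1] := by
    intro i
    induction i with
    | zero => simp [Matrix.one_fin_two]
    | succ i ih =>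
      rw [pow_succ, Matrix.SpecialLinearGroup.coe_mul, ih]
      ext a b; fin_cases a <;> fin_cases b <;>
        simp [U, Matrix.mul_apply, Fin.sum_univ_two, add_comm]
  have hsurj : ∀ M : SL2p, M.1 1 0 = 0 → ∃ g : ↥P, (g : G × SL2p).2 = M := by
    intro M hM
    have hdet := M.2
    rw [Matrix.det_fin_two, hM, mul_zero, sub_zero] at hdet
    let u : (ZMod p)ˣ := ⟨M.1 0 0, M.1 1 1, hdet, by rw [mul_comm]; exact hdet⟩
    obtain ⟨i, hi⟩ := Submonoid.mem_powers_iff _ _ |>.1 (mem_powers_iff_mem_zpowers.2 (hs u))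
    have hdP : ((d, U) : G × SL2p) ∈ P := ⟨hdU, show U.1 1 0 = 0 by simp [U]⟩
    have hnP : ((n, T) : G × SL2p) ∈ P := ⟨hnT, show T.1 1 0 = 0 from rfl⟩
    refine ⟨⟨(d, U) ^ (M.1 0 1 * M.1 0 0).val * (n, T) ^ i,
      mul_mem (pow_mem hdP _) (pow_mem hnP _)⟩, Subtype.ext ?_⟩
    show (U ^ (M.1 0 1 * M.1 0 0).val * T ^ i).1 = M.1
    have hu1 : (u : ZMod p) = M.1 0 0 := rfl
    have hu2 : ((u⁻¹ : (ZMod p)ˣ) : ZMod p) = M.1 1 1 := rfl
    rw [Matrix.SpecialLinearGroup.coe_mul, hTpow i u hi.symm, hUpow, ZMod.natCast_zmod_val, hu1, hu2,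
      Matrix.mul_fin_two]
    conv_rhs => rw [Matrix.eta_fin_two M.1, hM]
    simp only [mul_zero, zero_mul, add_zero, zero_add, one_mul]
    rw [mul_assoc, hdet, mul_one]
  haveI : Finite ↥P := Finite.of_injective _ hfst
  have hinv : Cfsg.Involves ↥(Cfsg.fOver (ZMod p)) ↥P :=
    involves_f_of_tau hp ((MonoidHom.snd G SL2p).comp P.subtype) (fun g => g.2.2) hsurj
      (fun y => ⟨_, hτg y, show (1 : SL2p).1 1 0 = 0 by simp⟩) (fun x y => Subtype.ext (Prod.ext (hadd x y)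
      (one_mul 1).symm)) (fun x y h => hinj (congrArg (fun q : ↥P => (q : G × SL2p).1) h))
      (fun _ => rfl) (fun g x => Subtype.ext (Prod.ext (g.2.1 x) (by
        show (g : G × SL2p).2 * 1 * (g : G × SL2p).2⁻¹ = 1
        rw [mul_one, mul_inv_cancel])))
  exact Involves.involves_of_subgroup
    (Involves.involves_of_surjective (MonoidHom.ofInjective hfst).symm.toMonoidHom
      (MonoidHom.ofInjective hfst).symm.surjective hinv)

end Cfsg.Agent.FSection
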